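import Groth.Agent.Sga4h.H127.Rep
import Groth.Agent.Sga4h.H931.KumDom
import Mathlib.Algebra.Polynomial.Laurent

/-!
# The affine line, `𝔾_m`, the torus and the Jacobi hypersurface as representing objects
-/

set_option autoImplicit false

universe u

open CategoryTheory CategoryTheory.Limits AlgebraicGeometry
open scoped BigOperators Polynomial LaurentPolynomial

namespace Groth.Agent.Sga4h.H127

open Groth.Agent.Sga4h.H931.KumDom (JacAlg xc jacLift jac_ringHom_ext jacLift_algebraMap)

/-- No condition. -/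
def PTrue {ι : Type} : ∀ (A : Type u) [CommRing A], (ι → A) → Prop := fun _ _ _ => True

/-- All the functions are units. -/
def PUnits {ι : Type} : ∀ (A : Type u) [CommRing A], (ι → A) → Prop := fun _ _ w => ∀ i, IsUnit (w i)

/-- All the functions are units and `1 + ∑ w_i = 0`. -/
def PJac {ι : Type} [Fintype ι] : ∀ (A : Type u) [CommRing A], (ι → A) → Prop :=
  fun _ _ w => (∀ i, IsUnit (w i)) ∧ 1 + ∑ i, w i = 0

theorem stab_true {ι : Type} : Stab.{u} (PTrue (ι := ι)) := fun _ _ _ _ _ _ _ => trivial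

theorem stab_units {ι : Type} : Stab.{u} (PUnits (ι := ι)) := fun _ _ _ _ φ _ h i => (h i).map φ

theorem stab_jac {ι : Type} [Fintype ι] : Stab.{u} (PJac (ι := ι)) := fun _ _ _ _ φ y h =>
  ⟨fun i => (h.1 i).map φ, by rw [← map_sum, ← map_one φ, ← map_add, h.2, map_zero]⟩

variable (K : Type u) [CommRing K] (n : ℕ)

/-- The coordinate ring of the torus. -/
abbrev TorAlg : Type u := Localization.Away (∏ i : Fin n, MvPolynomial.X i : MvPolynomial (Fin n) K)

/-- The coordinates of the torus. -/
noncomputable abbrev tc (i : Fin n) : TorAlg K n :=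
  algebraMap (MvPolynomial (Fin n) K) (TorAlg K n) (MvPolynomial.X i)

/-- The structure morphism of `Spec R`. -/
noncomputable abbrev strS (R : Type u) [CommRing R] [Algebra K R] :
    Spec (CommRingCat.of R) ⟶ Spec (CommRingCat.of K) :=
  Spec.map (CommRingCat.ofHom (algebraMap K R))

theorem isUnit_tc (i : Fin n) : IsUnit (tc K n i) := by
  have h1 : IsUnit (algebraMap (MvPolynomial (Fin n) K) (TorAlg K n) (∏ i : Fin n, MvPolynomial.X i)) :=
    IsLocalization.Away.algebraMap_isUnit _
  rw [map_prod] at h1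
  exact (IsUnit.prod_univ_iff).1 h1 i

variable {K n} in
/-- Ring maps out of the torus ring. -/
noncomputable def torLift {B : Type*} [CommRing B] (β : K →+* B) (w : Fin n → B) (hw : ∀ i, IsUnit (w i)) :
    TorAlg K n →+* B :=
  IsLocalization.Away.lift (∏ i : Fin n, MvPolynomial.X i : MvPolynomial (Fin n) K)
    (g := MvPolynomial.eval₂Hom β w) (by
      rw [map_prod]
      refine (IsUnit.prod_univ_iff).2 fun i => ?_
      rw [MvPolynomial.eval₂Hom_X']
      exact hw i)

variable {K n} in
theorem torLift_algebraMap {B : Type*} [CommRing B] (β : K →+* B) (w : Fin n → B) (hw : ∀ i, IsUnit (w i))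
    (p : MvPolynomial (Fin n) K) :
    torLift β w hw (algebraMap _ (TorAlg K n) p) = MvPolynomial.eval₂Hom β w p :=
  IsLocalization.Away.lift_eq _ _ _

variable {K n} in
theorem torLift_tc {B : Type*} [CommRing B] (β : K →+* B) (w : Fin n → B) (hw : ∀ i, IsUnit (w i))
    (i : Fin n) : torLift β w hw (tc K n i) = w i := by
  rw [tc, torLift_algebraMap, MvPolynomial.eval₂Hom_X']

variable {K n} in
theorem torLift_comp {B : Type*} [CommRing B] (β : K →+* B) (w : Fin n → B) (hw : ∀ i, IsUnit (w i)) :
    (torLift β w hw).comp (algebraMap K (TorAlg K n)) = β := by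
  ext c
  rw [RingHom.comp_apply, IsScalarTower.algebraMap_apply K (MvPolynomial (Fin n) K) (TorAlg K n),
    torLift_algebraMap, MvPolynomial.algebraMap_eq, MvPolynomial.eval₂Hom_C]

variable {K n} in
theorem tor_ringHom_ext {B : Type*} [CommRing B] {γ γ' : TorAlg K n →+* B}
    (h1 : γ.comp (algebraMap K (TorAlg K n)) = γ'.comp (algebraMap K (TorAlg K n)))
    (h2 : ∀ i, γ (tc K n i) = γ' (tc K n i)) : γ = γ' := by
  refine IsLocalization.ringHom_ext
    (Submonoid.powers (∏ i : Fin n, MvPolynomial.X i : MvPolynomial (Fin n) K)) ?_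
  refine MvPolynomial.ringHom_ext' ?_ h2
  ext c
  have h3 := RingHom.congr_fun h1 c
  rw [RingHom.comp_apply, RingHom.comp_apply,
    IsScalarTower.algebraMap_apply K (MvPolynomial (Fin n) K) (TorAlg K n)] at h3
  exact h3

/-- The affine line. -/
theorem rep_A1 : Rep (strS K K[X]) (fun _ : Unit => sp (Polynomial.X : K[X])) PTrue := by
  refine Rep.of_ring (algebraMap K K[X]) (fun _ : Unit => (Polynomial.X : K[X])) stab_true trivial ?_ ?_
  · intro B _ β w _
    refine ⟨Polynomial.eval₂RingHom β (w ()), ?_, fun _ => ?_⟩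
    · ext c
      simp
    · simp
  · intro B _ γ γ' h1 h2
    exact Polynomial.ringHom_ext (fun c => RingHom.congr_fun h1 c) (h2 ())

/-- The multiplicative group. -/
theorem rep_Gm : Rep (strS K K[T;T⁻¹]) (fun _ : Unit => sp (LaurentPolynomial.T 1 : K[T;T⁻¹])) PUnits := by
  refine Rep.of_ring (algebraMap K K[T;T⁻¹]) (fun _ : Unit => (LaurentPolynomial.T 1 : K[T;T⁻¹]))
    stab_units (fun _ => LaurentPolynomial.isUnit_T 1) ?_ ?_
  · intro B _ β w hw
    refine ⟨LaurentPolynomial.eval₂ β (hw ()).unit, ?_, fun _ => ?_⟩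
    · ext c
      change LaurentPolynomial.eval₂ β (hw ()).unit (LaurentPolynomial.C c) = β c
      rw [LaurentPolynomial.eval₂_C]
    · rw [LaurentPolynomial.eval₂_T, zpow_one]
      rfl
  · intro B _ γ γ' h1 h2
    refine IsLocalization.ringHom_ext (Submonoid.powers (Polynomial.X : K[X])) ?_
    refine Polynomial.ringHom_ext (fun c => ?_) ?_
    · have := RingHom.congr_fun h1 c
      rw [RingHom.comp_apply, RingHom.comp_apply, LaurentPolynomial.algebraMap_eq_toLaurent,
        Polynomial.toLaurent_C]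
      exact this
    · rw [RingHom.comp_apply, RingHom.comp_apply, LaurentPolynomial.algebraMap_eq_toLaurent,
        Polynomial.toLaurent_X]
      exact h2 ()

/-- The torus. -/
theorem rep_Tor : Rep (strS K (TorAlg K n)) (fun i => sp (tc K n i)) PUnits := by
  refine Rep.of_ring (algebraMap K (TorAlg K n)) (tc K n) stab_units (isUnit_tc K n) ?_ ?_
  · intro B _ β w hw
    exact ⟨torLift β w hw, torLift_comp β w hw, torLift_tc β w hw⟩
  · intro B _ γ γ' h1 h2
    exact tor_ringHom_ext h1 h2

/-- The Jacobi hypersurface. -/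
theorem rep_Jac : Rep (strS K (JacAlg K n)) (fun i => sp (xc K n i)) PJac := by
  refine Rep.of_ring (algebraMap K (JacAlg K n)) (xc K n) stab_jac
    ⟨fun i => Groth.Agent.Sga4h.H931.KumDom.isUnit_xc i, Groth.Agent.Sga4h.H931.KumDom.one_add_sum_xc⟩ ?_ ?_
  · intro B _ β w hw
    refine ⟨jacLift (MvPolynomial.eval₂Hom β w) (fun i => ?_) ?_, ?_, fun i => ?_⟩
    · rw [MvPolynomial.eval₂Hom_X']
      exact hw.1 i
    · rw [map_add, map_one, map_sum]
      simp only [MvPolynomial.eval₂Hom_X']
      exact hw.2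
    · ext c
      rw [RingHom.comp_apply, IsScalarTower.algebraMap_apply K (MvPolynomial (Fin n) K) (JacAlg K n),
        jacLift_algebraMap, MvPolynomial.algebraMap_eq, MvPolynomial.eval₂Hom_C]
    · rw [xc, jacLift_algebraMap, MvPolynomial.eval₂Hom_X']
  · intro B _ γ γ' h1 h2
    refine jac_ringHom_ext ?_
    refine MvPolynomial.ringHom_ext' ?_ h2
    ext c
    have h3 := RingHom.congr_fun h1 c
    rw [RingHom.comp_apply, RingHom.comp_apply,
      IsScalarTower.algebraMap_apply K (MvPolynomial (Fin n) K) (JacAlg K n)] at h3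
    exact h3

end Groth.Agent.Sga4h.H127
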