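import Groth.Agent.Sga4h.H127.TowK
import Groth.Agent.Sga4h.H768.JacHalf
import Groth.Agent.Sga4h.H931.Geom

/-!
# The geometry of the Jacobi variety over a field
-/

set_option autoImplicit false

universe u

open CategoryTheory CategoryTheory.Limits AlgebraicGeometry
open scoped BigOperators Polynomial LaurentPolynomial

namespace Groth.Agent.Sga4h.H127

open Groth.Agent.Sga4h.H931 Groth.Agent.Sga4h.H768.SigHalf Groth.Agent.Sga4h.H768.JacHalf
open Groth.Agent.Sga4h.H931.KumDom (JacAlg xc)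

variable (K : Type u) [Field K] (N : ℕ)

/-- The product `𝔸¹ × X`. -/
noncomputable abbrev ZJ : Scheme.{u} := pullback (strS K K[X]) (strS K (TorAlg K N))

/-- First projection. -/
noncomputable abbrev p1J : ZJ K N ⟶ Spec (CommRingCat.of K[X]) := pullback.fst _ _

/-- Second projection. -/
noncomputable abbrev p2J : ZJ K N ⟶ Spec (CommRingCat.of (TorAlg K N)) := pullback.snd _ _

/-- The square of the product `𝔸¹ × X`. -/
theorem sqJ : IsPullback (p1J K N) (p2J K N) (strS K K[X]) (strS K (TorAlg K N)) :=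
  IsPullback.of_hasPullback _ _

theorem sig_towK : (Geom.sig (towK K) N : Γ(Spec (CommRingCat.of (TorAlg K N)), ⊤)) = sp (sT K N) :=
  (sp_sT K N).symm

/-- The function `1 + Σ z_i`. -/
noncomputable abbrev sgJ : Γ(Spec (CommRingCat.of (TorAlg K N)), ⊤) := Geom.sig (towK K) N

theorem twistJ : ∃ r : pullback (p2J K N) (oS (sT K N)) ⟶ Spec (CommRingCat.of K[X]),
    IsPullback r (pullback.snd (p2J K N) (oS (sT K N))) (strS K K[X]) (oS (sT K N) ≫ strS K (TorAlg K N)) ∧
    r.appTop.hom (sp (Polynomial.X : K[X])) =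
      (pullback.fst (p2J K N) (oS (sT K N))).appTop.hom
        ((p1J K N).appTop.hom (sp (Polynomial.X : K[X])) * (p2J K N).appTop.hom (sgJ K N)) := by
  obtain ⟨r, h1, h2⟩ := exists_twist (sT K N) (sqJ K N) (rep_A1 K)
  refine ⟨r, h1, ?_⟩
  rw [h2, sgJ, sig_towK]

/-- `G × X`. -/
noncomputable abbrev ZGJ : Scheme.{u} := pullback (strS K K[T;T⁻¹]) (strS K (TorAlg K N))

theorem exists_open : ∃ (s : Spec (CommRingCat.of (TorAlg K N)) ⟶ ZJ K N) (oG : ZGJ K N ⟶ ZJ K N)
    (φ : ZGJ K N ⟶ Spec (CommRingCat.of (TorAlg K (N + 1)))),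
    IsClosedImmersion s ∧ s ≫ p2J K N = 𝟙 _ ∧
    s.appTop.hom ((p1J K N).appTop.hom (sp (Polynomial.X : K[X]))) = 0 ∧
    IsOpenImmersion oG ∧ QuasiCompact oG ∧
    oG ≫ p2J K N ≫ strS K (TorAlg K N) =
      pullback.snd (strS K K[T;T⁻¹]) (strS K (TorAlg K N)) ≫ strS K (TorAlg K N) ∧
    Set.range oG = (Set.range s)ᶜ ∧ IsIso φ ∧
    φ ≫ strS K (TorAlg K (N + 1)) =
      pullback.snd (strS K K[T;T⁻¹]) (strS K (TorAlg K N)) ≫ strS K (TorAlg K N) ∧
    φ.appTop.hom (sp (tc K (N + 1) 0)) = oG.appTop.hom ((p1J K N).appTop.hom (sp (Polynomial.X : K[X]))) ∧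
    ∀ i : Fin N, φ.appTop.hom (sp (tc K (N + 1) i.succ)) =
      oG.appTop.hom ((p1J K N).appTop.hom (sp (Polynomial.X : K[X]))) *
        oG.appTop.hom ((p2J K N).appTop.hom (sp (tc K N i))) := by
  obtain ⟨s, oG, h1, h2, h3, h4, h5, h6, -, h7, h8⟩ := exists_zero_open (strS K (TorAlg K N))
  obtain ⟨φ, f1, f2, f3, f4⟩ := exists_phi K N
  refine ⟨s, oG, φ, h1, h2, h3, h4, h5, ?_, h8, f1, f2, f3.trans h7.symm, fun i => ?_⟩
  · rw [← Category.assoc, h6]
  · rw [f4, h7, ← h6, comp_app]

instance finiteType_awayT : Algebra.FiniteType K (Localization.Away (sT K N)) :=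
  Algebra.FiniteType.trans (S := TorAlg K N) inferInstance inferInstance

theorem good_e : HcCls.Good (p2J K N ≫ strS K (TorAlg K N)) := by
  have := lft_strS K K[X]
  have := lft_strS K (TorAlg K N)
  exact ⟨inferInstance, inferInstance, inferInstance⟩

theorem good_D : HcCls.Good (oS (sT K N) ≫ strS K (TorAlg K N)) := by
  rw [strS_comp]
  exact good_strS K _

theorem sqYJ : IsPullback (pullback.fst (p2J K N) (iJ K N) ≫ p1J K N) (pullback.snd (p2J K N) (iJ K N))
    (strS K K[X]) (strS K (JacAlg K N)) := by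
  have h := isPullback_Y (sT K N) (sqJ K N)
  rwa [iJ_str] at h

/-- The geometry of the Jacobi variety. -/
noncomputable def jacK : Geom.JacGeo (towK K) N where
  A₁ := Spec (CommRingCat.of K[X])
  aA := strS K K[X]
  T := sp (Polynomial.X : K[X])
  Z := ZJ K N
  e := p2J K N ≫ strS K (TorAlg K N)
  p1 := p1J K N
  p2 := p2J K N
  we := rfl
  Y := Spec (CommRingCat.of (JacAlg K N))
  aY := strS K (JacAlg K N)
  i := iJ K N
  wi := iJ_str K N
  hσ := iJ_sT K N
  ZY := pullback (p2J K N) (iJ K N)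
  eY := pullback.fst (p2J K N) (iJ K N) ≫ p2J K N ≫ strS K (TorAlg K N)
  iZ := pullback.fst (p2J K N) (iJ K N)
  qY := pullback.snd (p2J K N) (iJ K N)
  wZY := rfl
  hiZ := inferInstance
  sqY := sqYJ K N
  wY := pullback.condition
  DD := Spec (CommRingCat.of (Localization.Away (sT K N)))
  aD := oS (sT K N) ≫ strS K (TorAlg K N)
  oD := oS (sT K N)
  wDD := rfl
  ZD := pullback (p2J K N) (oS (sT K N))
  eD := pullback.fst (p2J K N) (oS (sT K N)) ≫ p2J K N ≫ strS K (TorAlg K N)
  oZ := pullback.fst (p2J K N) (oS (sT K N))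
  wZD := rfl
  hoZ := inferInstance
  qoZ := inferInstance
  rD := range_D (sT K N)
  qD := pullback.snd (p2J K N) (oS (sT K N))
  r1 := (twistJ K N).choose
  sqD := (twistJ K N).choose_spec.1
  wD := pullback.condition
  hr1 := (twistJ K N).choose_spec.2
  s := (exists_open K N).choose
  hs := (exists_open K N).choose_spec.choose_spec.choose_spec.1
  ws := (exists_open K N).choose_spec.choose_spec.choose_spec.2.1
  hs0 := (exists_open K N).choose_spec.choose_spec.choose_spec.2.2.1
  ZG := ZGJ K N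
  eG := pullback.snd (strS K K[T;T⁻¹]) (strS K (TorAlg K N)) ≫ strS K (TorAlg K N)
  oG := (exists_open K N).choose_spec.choose
  hoG := (exists_open K N).choose_spec.choose_spec.choose_spec.2.2.2.1
  qoG := (exists_open K N).choose_spec.choose_spec.choose_spec.2.2.2.2.1
  wG := (exists_open K N).choose_spec.choose_spec.choose_spec.2.2.2.2.2.1
  rG := (exists_open K N).choose_spec.choose_spec.choose_spec.2.2.2.2.2.2.1
  φ := (exists_open K N).choose_spec.choose_spec.choose
  hφ := (exists_open K N).choose_spec.choose_spec.choose_spec.2.2.2.2.2.2.2.1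
  wφ := (exists_open K N).choose_spec.choose_spec.choose_spec.2.2.2.2.2.2.2.2.1
  φ0 := (exists_open K N).choose_spec.choose_spec.choose_spec.2.2.2.2.2.2.2.2.2.1
  φS := (exists_open K N).choose_spec.choose_spec.choose_spec.2.2.2.2.2.2.2.2.2.2
  gA := good_strS K _
  gZ := good_e K N
  gY := good_strS K _
  gD := good_D K N

/-- The inclusion of the Jacobi variety and the coordinates. -/
theorem jacK_z (i : Fin N) : (jacK K N).i.appTop.hom ((towK K).z N i : Γ((towK K).X N, ⊤)) = sp (xc K N i) :=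
  iJ_tc K N i

end Groth.Agent.Sga4h.H127
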