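import Mathlib.AlgebraicGeometry.Pullbacks
import Mathlib.AlgebraicGeometry.AffineScheme

/-!
# Schemes over `S` represented by families of functions

`Rep a f P` : the `S`-scheme `a : Z ⟶ S` with the functions `f i` represents the functor
`W ↦ {families of functions on W satisfying P}`.

* `Rep.of_ring` : affine `Z` over affine `S`, from the universal property of the ring;
* `Rep.prod` : products;
* `Rep.reindex`, `Rep.exists_iso`, `Rep.isIso_of_isEmpty`;
* `Rep.isPullback` : products from representability.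
-/

set_option autoImplicit false

universe u

open CategoryTheory CategoryTheory.Limits AlgebraicGeometry

namespace Groth.Agent.Sga4h.H127

/-- `a : Z ⟶ S` with the functions `f` represents families of functions satisfying `P`. -/
structure Rep {S Z : Scheme.{u}} (a : Z ⟶ S) {ι : Type} (f : ι → Γ(Z, ⊤))
    (P : ∀ (A : Type u) [CommRing A], (ι → A) → Prop) : Prop where
  mem : P Γ(Z, ⊤) f
  lift : ∀ (W : Scheme.{u}) (b : W ⟶ S) (w : ι → Γ(W, ⊤)), P Γ(W, ⊤) w →
    ∃ g : W ⟶ Z, g ≫ a = b ∧ ∀ i, g.appTop.hom (f i) = w i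
  uniq : ∀ (W : Scheme.{u}) (g g' : W ⟶ Z), g ≫ a = g' ≫ a →
    (∀ i, g.appTop.hom (f i) = g'.appTop.hom (f i)) → g = g'

/-- The condition `P` is stable under ring maps. -/
def Stab {ι : Type} (P : ∀ (A : Type u) [CommRing A], (ι → A) → Prop) : Prop :=
  ∀ (A B : Type u) [CommRing A] [CommRing B] (φ : A →+* B) (y : ι → A), P A y → P B (fun i => φ (y i))

theorem comp_app {W Z Y : Scheme.{u}} (g : W ⟶ Z) (p : Z ⟶ Y) (x : Γ(Y, ⊤)) :
    (g ≫ p).appTop.hom x = g.appTop.hom (p.appTop.hom x) := by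
  rw [Scheme.Hom.comp_appTop]
  rfl

theorem app_congr {W Z : Scheme.{u}} {g g' : W ⟶ Z} (h : g = g') (x : Γ(Z, ⊤)) :
    g.appTop.hom x = g'.appTop.hom x := by
  rw [h]

section Val

variable {Z Z' : Scheme.{u}} {R R' : Type u} [CommRing R] [CommRing R']

/-- The function on `Spec R` given by an element of `R`. -/
noncomputable abbrev sp (x : R) : Γ(Spec (CommRingCat.of R), ⊤) := (Scheme.ΓSpecIso (CommRingCat.of R)).inv.hom x

/-- The ring map attached to a morphism to an affine scheme. -/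
noncomputable def val (g : Z ⟶ Spec (CommRingCat.of R)) : R →+* Γ(Z, ⊤) :=
  ((Scheme.ΓSpecIso (CommRingCat.of R)).inv ≫ g.appTop).hom

theorem val_apply (g : Z ⟶ Spec (CommRingCat.of R)) (x : R) : val g x = g.appTop.hom (sp x) := rfl

theorem val_comp (h : Z' ⟶ Z) (g : Z ⟶ Spec (CommRingCat.of R)) (x : R) :
    val (h ≫ g) x = h.appTop.hom (val g x) := by
  rw [val_apply, Scheme.Hom.comp_appTop]
  rfl

theorem appTop_sp (φ : R' →+* R) (x : R') :
    (Spec.map (CommRingCat.ofHom φ)).appTop.hom (sp x) = sp (φ x) := by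
  have h : (Scheme.ΓSpecIso (CommRingCat.of R')).inv ≫ (Spec.map (CommRingCat.ofHom φ)).appTop =
      CommRingCat.ofHom φ ≫ (Scheme.ΓSpecIso (CommRingCat.of R)).inv :=
    (Scheme.ΓSpecIso_inv_naturality (CommRingCat.ofHom φ)).symm
  exact congrArg (fun k => k.hom x) h

theorem val_spec (g : Z ⟶ Spec (CommRingCat.of R)) (φ : R' →+* R) (x : R') :
    val (g ≫ Spec.map (CommRingCat.ofHom φ)) x = val g (φ x) := by
  rw [val_apply, Scheme.Hom.comp_appTop]
  exact congrArg g.appTop.hom (appTop_sp φ x)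

theorem val_ext {f g : Z ⟶ Spec (CommRingCat.of R)} (h : val f = val g) : f = g := by
  apply ext_of_isAffine
  rw [← cancel_epi (Scheme.ΓSpecIso (CommRingCat.of R)).inv]
  exact CommRingCat.hom_ext h

/-- The morphism with given values. -/
noncomputable def ofVal (φ : R →+* Γ(Z, ⊤)) : Z ⟶ Spec (CommRingCat.of R) :=
  Z.toSpecΓ ≫ Spec.map (CommRingCat.ofHom φ)

theorem val_ofVal (φ : R →+* Γ(Z, ⊤)) : val (ofVal φ : Z ⟶ Spec (CommRingCat.of R)) = φ := by
  ext a
  have h := val_spec (R := Γ(Z, ⊤)) Z.toSpecΓ φ a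
  refine h.trans ?_
  have h2 : (Scheme.ΓSpecIso Γ(Z, ⊤)).inv ≫ Z.toSpecΓ.appTop = 𝟙 _ := by
    rw [Scheme.toSpecΓ_appTop, Iso.inv_hom_id]
  exact congrArg (fun k => k.hom (φ a)) h2

end Val

/-- Representability for affine schemes, from the universal property of the ring. -/
theorem Rep.of_ring {K R : Type u} [CommRing K] [CommRing R] (α : K →+* R) {ι : Type} (x : ι → R)
    {P : ∀ (A : Type u) [CommRing A], (ι → A) → Prop} (hP : Stab P) (hmem : P R x)
    (hex : ∀ (B : Type u) [CommRing B] (β : K →+* B) (w : ι → B), P B w →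
      ∃ γ : R →+* B, γ.comp α = β ∧ ∀ i, γ (x i) = w i)
    (huniq : ∀ (B : Type u) [CommRing B] (γ γ' : R →+* B), γ.comp α = γ'.comp α →
      (∀ i, γ (x i) = γ' (x i)) → γ = γ') :
    Rep (Spec.map (CommRingCat.ofHom α)) (fun i => sp (x i)) P where
  mem := hP R _ (Scheme.ΓSpecIso (CommRingCat.of R)).inv.hom x hmem
  lift W b w hw := by
    obtain ⟨γ, h1, h2⟩ := hex Γ(W, ⊤) (val b) w hw
    refine ⟨ofVal γ, ?_, fun i => ?_⟩
    · apply val_ext
      rw [← h1]
      ext c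
      rw [val_spec, val_ofVal]
      rfl
    · rw [← val_apply, val_ofVal]
      exact h2 i
  uniq W g g' h1 h2 := by
    apply val_ext
    refine huniq _ _ _ ?_ h2
    ext c
    have h3 := congrArg (fun k => val k c) h1
    change val (g ≫ _) c = val (g' ≫ _) c at h3
    rw [val_spec, val_spec] at h3
    exact h3

variable {S Z Z' Z'' : Scheme.{u}} {a : Z ⟶ S} {a' : Z' ⟶ S} {a'' : Z'' ⟶ S} {ι ι' ι'' : Type}
  {f : ι → Γ(Z, ⊤)} {f' : ι' → Γ(Z', ⊤)} {f'' : ι'' → Γ(Z'', ⊤)}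
  {P : ∀ (A : Type u) [CommRing A], (ι → A) → Prop} {P' : ∀ (A : Type u) [CommRing A], (ι' → A) → Prop}
  {P'' : ∀ (A : Type u) [CommRing A], (ι'' → A) → Prop}

/-- Two objects representing the same functor are isomorphic. -/
theorem Rep.exists_iso {f' : ι → Γ(Z', ⊤)} (h : Rep a f P) (h' : Rep a' f' P) :
    ∃ e : Z ≅ Z', e.hom ≫ a' = a ∧ (∀ i, e.hom.appTop.hom (f' i) = f i) ∧
      (∀ i, e.inv.appTop.hom (f i) = f' i) := by
  obtain ⟨g, h1, h2⟩ := h'.lift Z a f h.mem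
  obtain ⟨g', h3, h4⟩ := h.lift Z' a' f' h'.mem
  refine ⟨⟨g, g', ?_, ?_⟩, h1, h2, h4⟩
  · refine h.uniq _ _ _ ?_ fun i => ?_
    · rw [Category.assoc, h3, h1, Category.id_comp]
    · rw [Scheme.Hom.comp_appTop, Scheme.Hom.id_appTop]
      change g.appTop.hom (g'.appTop.hom (f i)) = f i
      rw [h4, h2]
  · refine h'.uniq _ _ _ ?_ fun i => ?_
    · rw [Category.assoc, h1, h3, Category.id_comp]
    · rw [Scheme.Hom.comp_appTop, Scheme.Hom.id_appTop]
      change g'.appTop.hom (g.appTop.hom (f' i)) = f' i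
      rw [h2, h4]

/-- Change of coordinates. -/
theorem Rep.congr (h : Rep a f P) (f₁ : ι' → Γ(Z, ⊤)) (hmem : P' Γ(Z, ⊤) f₁)
    (hex : ∀ (A : Type u) [CommRing A] (w : ι' → A), P' A w → ∃ v : ι → A, P A v ∧
      ∀ φ : Γ(Z, ⊤) →+* A, (∀ i, φ (f i) = v i) → ∀ i, φ (f₁ i) = w i)
    (huniq : ∀ (A : Type u) [CommRing A] (φ φ' : Γ(Z, ⊤) →+* A), (∀ i, φ (f₁ i) = φ' (f₁ i)) →
      ∀ i, φ (f i) = φ' (f i)) : Rep a f₁ P' where
  mem := hmem
  lift W b w hw := by
    obtain ⟨v, hv, h2⟩ := hex _ w hw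
    obtain ⟨g, h3, h4⟩ := h.lift W b v hv
    exact ⟨g, h3, h2 g.appTop.hom h4⟩
  uniq W g g' h1 h2 := h.uniq W g g' h1 (huniq _ g.appTop.hom g'.appTop.hom h2)

/-- Reindexing. -/
theorem Rep.reindex (h : Rep a f P) (e : ι' ≃ ι) (f₁ : ι' → Γ(Z, ⊤)) (hf : ∀ i, f₁ i = f (e i))
    (hP : ∀ (A : Type u) [CommRing A] (w : ι' → A), P' A w ↔ P A (fun i => w (e.symm i))) :
    Rep a f₁ P' := by
  obtain rfl : f₁ = fun i => f (e i) := funext hf
  refine h.congr _ ?_ ?_ ?_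
  · rw [hP]
    simpa using h.mem
  · intro A _ w hw
    refine ⟨fun i => w (e.symm i), (hP A w).1 hw, fun φ hφ i => (hφ (e i)).trans ?_⟩
    exact congrArg w (e.symm_apply_apply i)
  · intro A _ φ φ' h1 i
    simpa using h1 (e.symm i)

/-- Products. -/
theorem Rep.prod (h : Rep a f P) (h' : Rep a' f' P') (hP : Stab P) (hP' : Stab P') {Z₁ : Scheme.{u}}
    {p₁ : Z₁ ⟶ Z} {p₂ : Z₁ ⟶ Z'} (sq : IsPullback p₁ p₂ a a') :
    Rep (p₁ ≫ a) (Sum.elim (fun i => p₁.appTop.hom (f i)) (fun i => p₂.appTop.hom (f' i)))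
      (fun A _ w => P A (fun i => w (Sum.inl i)) ∧ P' A (fun i => w (Sum.inr i))) where
  mem := ⟨hP _ _ p₁.appTop.hom f h.mem, hP' _ _ p₂.appTop.hom f' h'.mem⟩
  lift W b w hw := by
    obtain ⟨g, h1, h2⟩ := h.lift W b _ hw.1
    obtain ⟨g', h3, h4⟩ := h'.lift W b _ hw.2
    refine ⟨sq.lift g g' (h1.trans h3.symm), ?_, ?_⟩
    · rw [← Category.assoc, sq.lift_fst, h1]
    · rintro (i | i)
      · refine Eq.trans ?_ (h2 i)
        exact (comp_app _ _ _).symm.trans (app_congr (sq.lift_fst g g' (h1.trans h3.symm)) _)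
      · refine Eq.trans ?_ (h4 i)
        exact (comp_app _ _ _).symm.trans (app_congr (sq.lift_snd g g' (h1.trans h3.symm)) _)
  uniq W g g' h1 h2 := by
    apply sq.hom_ext
    · refine h.uniq _ _ _ ?_ fun i => ?_
      · simpa only [Category.assoc] using h1
      · rw [comp_app, comp_app]
        exact h2 (Sum.inl i)
    · refine h'.uniq _ _ _ ?_ fun i => ?_
      · rw [Category.assoc, Category.assoc, ← sq.w]
        exact h1
      · rw [comp_app, comp_app]
        exact h2 (Sum.inr i)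

/-- Products from representability. -/
theorem Rep.isPullback (h : Rep a f P) (h' : Rep a' f' P') (h'' : Rep a'' f'' P'') {p₁ : Z'' ⟶ Z}
    {p₂ : Z'' ⟶ Z'} (w₁ : p₁ ≫ a = a'') (w₂ : p₂ ≫ a' = a'') (hP : Stab P) (hP' : Stab P')
    (hc : ∀ j, (∃ i, p₁.appTop.hom (f i) = f'' j) ∨ (∃ i, p₂.appTop.hom (f' i) = f'' j))
    (hex : ∀ (A : Type u) [CommRing A] (w : ι → A) (w' : ι' → A), P A w → P' A w' →
      ∃ w'' : ι'' → A, P'' A w'' ∧ ∀ φ : Γ(Z'', ⊤) →+* A, (∀ j, φ (f'' j) = w'' j) →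
        (∀ i, φ (p₁.appTop.hom (f i)) = w i) ∧ (∀ i, φ (p₂.appTop.hom (f' i)) = w' i)) :
    IsPullback p₁ p₂ a a' := by
  refine ⟨⟨w₁.trans w₂.symm⟩, ⟨PullbackCone.IsLimit.mk (w₁.trans w₂.symm) (fun s =>
    (h''.lift s.pt (s.fst ≫ a) (hex _ _ _ (hP _ _ s.fst.appTop.hom f h.mem)
      (hP' _ _ s.snd.appTop.hom f' h'.mem)).choose (hex _ _ _ (hP _ _ s.fst.appTop.hom f h.mem)
      (hP' _ _ s.snd.appTop.hom f' h'.mem)).choose_spec.1).choose) (fun s => ?_) (fun s => ?_)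
      (fun s m h1 h2 => ?_)⟩⟩
  · have h1 := (hex _ _ _ (hP _ _ s.fst.appTop.hom f h.mem)
      (hP' _ _ s.snd.appTop.hom f' h'.mem)).choose_spec
    have h2 := (h''.lift s.pt (s.fst ≫ a) _ h1.1).choose_spec
    refine h.uniq _ _ _ ?_ fun i => ?_
    · rw [Category.assoc, w₁]
      exact h2.1
    · have := (h1.2 _ h2.2).1 i
      rw [Scheme.Hom.comp_appTop]
      exact this
  · have h1 := (hex _ _ _ (hP _ _ s.fst.appTop.hom f h.mem)
      (hP' _ _ s.snd.appTop.hom f' h'.mem)).choose_spec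
    have h2 := (h''.lift s.pt (s.fst ≫ a) _ h1.1).choose_spec
    refine h'.uniq _ _ _ ?_ fun i => ?_
    · rw [Category.assoc, w₂]
      exact h2.1.trans s.condition
    · have := (h1.2 _ h2.2).2 i
      rw [Scheme.Hom.comp_appTop]
      exact this
  · have h3 := (hex _ _ _ (hP _ _ s.fst.appTop.hom f h.mem)
      (hP' _ _ s.snd.appTop.hom f' h'.mem)).choose_spec
    have h4 := (h''.lift s.pt (s.fst ≫ a) _ h3.1).choose_spec
    have h5 := h3.2 _ h4.2
    refine h''.uniq _ _ _ ?_ fun j => ?_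
    · rw [h4.1, ← w₁, ← Category.assoc, h1]
    · rcases hc j with ⟨i, hi⟩ | ⟨i, hi⟩
      · rw [← hi]
        refine Eq.trans ?_ (h5.1 i).symm
        rw [← h1, Scheme.Hom.comp_appTop]
        rfl
      · rw [← hi]
        refine Eq.trans ?_ (h5.2 i).symm
        rw [← h2, Scheme.Hom.comp_appTop]
        rfl

/-- No coordinates. -/
theorem Rep.isIso_of_isEmpty [IsEmpty ι] (h : Rep a f P)
    (hP : ∀ (A : Type u) [CommRing A] (w : ι → A), P A w) : IsIso a := by
  obtain ⟨g, h1, -⟩ := h.lift S (𝟙 S) isEmptyElim (hP _ _)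
  refine ⟨g, ?_, h1⟩
  refine h.uniq _ _ _ ?_ isEmptyElim
  rw [Category.assoc, h1, Category.comp_id, Category.id_comp]

end Groth.Agent.Sga4h.H127
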