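import Groth.Agent.Sga4h.H127.RepInst
import Mathlib.AlgebraicGeometry.PullbackCarrier
import Mathlib.AlgebraicGeometry.Morphisms.ClosedImmersion
import Mathlib.AlgebraicGeometry.Morphisms.FiniteType
import Mathlib.RingTheory.FiniteType

/-!
# Tori: products, the twisted product, the open and closed parts of `𝔸¹ × X`

* `exists_pr1`, `exists_pr2`, `isPullback_tor`, `isIso_tor_zero` : the tower of tori;
* `exists_zero_open` : `X → 𝔸¹ × X ← 𝔾_m × X`, complementary closed and open immersions;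
* `exists_phi` : `𝔾_m × 𝔾_m^n ≅ 𝔾_m^(n+1)`, `(t, z) ↦ (t, t z)`;
* `lft_*` : the structure morphisms are of finite type.
-/

set_option autoImplicit false

universe u

open CategoryTheory CategoryTheory.Limits AlgebraicGeometry
open scoped BigOperators Polynomial LaurentPolynomial

namespace Groth.Agent.Sga4h.H127

open Groth.Agent.Sga4h.H931.KumDom (JacAlg xc)

variable (K : Type u) [CommRing K] (n : ℕ)

theorem exists_pr1 : ∃ pr1 : Spec (CommRingCat.of (TorAlg K (n + 1))) ⟶ Spec (CommRingCat.of K[T;T⁻¹]),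
    pr1 ≫ strS K K[T;T⁻¹] = strS K (TorAlg K (n + 1)) ∧
    pr1.appTop.hom (sp (LaurentPolynomial.T 1 : K[T;T⁻¹])) = sp (tc K (n + 1) 0) := by
  obtain ⟨g, h1, h2⟩ := (rep_Gm K).lift _ (strS K (TorAlg K (n + 1))) (fun _ => sp (tc K (n + 1) 0))
    (fun _ => (rep_Tor K (n + 1)).mem 0)
  exact ⟨g, h1, h2 ()⟩

theorem exists_pr2 : ∃ pr2 : Spec (CommRingCat.of (TorAlg K (n + 1))) ⟶ Spec (CommRingCat.of (TorAlg K n)),
    pr2 ≫ strS K (TorAlg K n) = strS K (TorAlg K (n + 1)) ∧
    ∀ i, pr2.appTop.hom (sp (tc K n i)) = sp (tc K (n + 1) i.succ) :=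
  (rep_Tor K n).lift _ (strS K (TorAlg K (n + 1))) (fun i => sp (tc K (n + 1) i.succ))
    (fun i => (rep_Tor K (n + 1)).mem i.succ)

variable {K n} in
/-- `𝔾_m^(n+1) = 𝔾_m × 𝔾_m^n` -/
theorem isPullback_tor
    {pr1 : Spec (CommRingCat.of (TorAlg K (n + 1))) ⟶ Spec (CommRingCat.of K[T;T⁻¹])}
    {pr2 : Spec (CommRingCat.of (TorAlg K (n + 1))) ⟶ Spec (CommRingCat.of (TorAlg K n))}
    (w1 : pr1 ≫ strS K K[T;T⁻¹] = strS K (TorAlg K (n + 1)))
    (h1 : pr1.appTop.hom (sp (LaurentPolynomial.T 1 : K[T;T⁻¹])) = sp (tc K (n + 1) 0))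
    (w2 : pr2 ≫ strS K (TorAlg K n) = strS K (TorAlg K (n + 1)))
    (h2 : ∀ i, pr2.appTop.hom (sp (tc K n i)) = sp (tc K (n + 1) i.succ)) :
    IsPullback pr1 pr2 (strS K K[T;T⁻¹]) (strS K (TorAlg K n)) := by
  refine (rep_Gm K).isPullback (rep_Tor K n) (rep_Tor K (n + 1)) w1 w2 stab_units stab_units ?_ ?_
  · intro j
    refine Fin.cases (Or.inl ⟨(), h1⟩) (fun i => Or.inr ⟨i, h2 i⟩) j
  · intro A _ w w' hw hw'
    refine ⟨Fin.cases (w ()) w', Fin.cases (hw ()) hw', fun φ hφ => ⟨fun i => ?_, fun i => ?_⟩⟩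
    · rw [h1]
      exact hφ 0
    · rw [h2]
      exact hφ i.succ

theorem isIso_tor_zero : IsIso (strS K (TorAlg K 0)) :=
  (rep_Tor K 0).isIso_of_isEmpty fun _ _ _ i => i.elim0

/-! ### Finiteness -/

theorem lft_strS (R : Type u) [CommRing R] [Algebra K R] [h : Algebra.FiniteType K R] :
    LocallyOfFiniteType (strS K R) := by
  rw [HasRingHomProperty.Spec_iff (P := @LocallyOfFiniteType)]
  exact RingHom.finiteType_algebraMap.2 h

instance finiteType_laurent : Algebra.FiniteType K K[T;T⁻¹] :=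
  inferInstanceAs (Algebra.FiniteType K (AddMonoidAlgebra K ℤ))

instance finiteType_tor : Algebra.FiniteType K (TorAlg K n) :=
  inferInstance

instance finiteType_jac : Algebra.FiniteType K (JacAlg K n) :=
  Algebra.FiniteType.of_surjective (Ideal.Quotient.mkₐ K
    (Ideal.span {algebraMap (MvPolynomial (Fin n) K) (TorAlg K n) (1 + ∑ i : Fin n, MvPolynomial.X i)}))
    (Ideal.Quotient.mkₐ_surjective _ _)

/-! ### The zero section and its complement -/

/-- The zero section of the affine line. -/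
noncomputable def z0 : Spec (CommRingCat.of K) ⟶ Spec (CommRingCat.of K[X]) :=
  Spec.map (CommRingCat.ofHom (Polynomial.evalRingHom (0 : K)))

/-- `𝔾_m ⊂ 𝔸¹` -/
noncomputable def gm : Spec (CommRingCat.of K[T;T⁻¹]) ⟶ Spec (CommRingCat.of K[X]) :=
  Spec.map (CommRingCat.ofHom (algebraMap K[X] K[T;T⁻¹]))

theorem z0_str : z0 K ≫ strS K K[X] = 𝟙 _ := by
  rw [z0, strS, ← Spec.map_comp, ← CommRingCat.ofHom_comp, ← Spec.map_id]
  congr 1
  ext c
  simp

theorem gm_str : gm K ≫ strS K K[X] = strS K K[T;T⁻¹] := by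
  rw [gm, strS, strS, ← Spec.map_comp, ← CommRingCat.ofHom_comp]
  congr 1
  ext c
  simp [LaurentPolynomial.algebraMap_eq_toLaurent]

theorem z0_X : (z0 K).appTop.hom (sp (Polynomial.X : K[X])) = 0 := by
  rw [z0, appTop_sp]
  simp

theorem gm_X : (gm K).appTop.hom (sp (Polynomial.X : K[X])) = sp (LaurentPolynomial.T 1 : K[T;T⁻¹]) := by
  rw [gm, appTop_sp, LaurentPolynomial.algebraMap_eq_toLaurent, Polynomial.toLaurent_X]

instance isClosedImmersion_z0 : IsClosedImmersion (z0 K) :=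
  IsClosedImmersion.spec_of_surjective _ fun c => ⟨Polynomial.C c, by simp⟩

instance isOpenImmersion_gm : IsOpenImmersion (gm K) :=
  IsOpenImmersion.of_isLocalization (Polynomial.X : K[X])

theorem range_gm : Set.range (gm K) = (Set.range (z0 K))ᶜ := by
  have h1 : Set.range (gm K) = (PrimeSpectrum.basicOpen (Polynomial.X : K[X]) : Set (PrimeSpectrum K[X])) :=
    PrimeSpectrum.localization_away_comap_range K[T;T⁻¹] (Polynomial.X : K[X])
  have h2 : Set.range (z0 K) =
      PrimeSpectrum.zeroLocus (RingHom.ker (Polynomial.evalRingHom (0 : K)) : Set K[X]) :=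
    range_comap_of_surjective K (Polynomial.evalRingHom (0 : K)) fun c => ⟨Polynomial.C c, by simp⟩
  rw [h1, h2, PrimeSpectrum.basicOpen_eq_zeroLocus_compl]
  congr 1
  have h3 : RingHom.ker (Polynomial.evalRingHom (0 : K)) = Ideal.span {(Polynomial.X : K[X])} := by
    have := Polynomial.ker_evalRingHom (0 : K)
    rwa [map_zero, sub_zero] at this
  rw [h3, PrimeSpectrum.zeroLocus_span]

theorem range_of_isPullback {P X Y Z : Scheme.{u}} {f' : P ⟶ X} {g' : P ⟶ Y} {f : X ⟶ Z} {g : Y ⟶ Z}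
    (h : IsPullback f' g' f g) : Set.range f' = f ⁻¹' Set.range g := by
  rw [← Scheme.Pullback.range_fst f g]
  have e : f' = h.isoPullback.hom ≫ pullback.fst f g := h.isoPullback_hom_fst.symm
  have h1 : Function.Surjective h.isoPullback.hom := h.isoPullback.hom.surjective
  rw [e, Scheme.Hom.comp_base, TopCat.coe_comp, Set.range_comp, h1.range_eq, Set.image_univ]

variable {K} {X : Scheme.{u}} (x : X ⟶ Spec (CommRingCat.of K))

/-- `X → 𝔸¹ × X ← 𝔾_m × X`: complementary closed and open immersions. -/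
theorem exists_zero_open : ∃ (s : X ⟶ pullback (strS K K[X]) x)
    (oG : pullback (strS K K[T;T⁻¹]) x ⟶ pullback (strS K K[X]) x),
    IsClosedImmersion s ∧ s ≫ pullback.snd _ _ = 𝟙 X ∧
    s.appTop.hom ((pullback.fst (strS K K[X]) x).appTop.hom (sp (Polynomial.X : K[X]))) = 0 ∧
    IsOpenImmersion oG ∧ QuasiCompact oG ∧ oG ≫ pullback.snd _ _ = pullback.snd _ _ ∧
    oG ≫ pullback.fst _ _ = pullback.fst _ _ ≫ gm K ∧
    oG.appTop.hom ((pullback.fst (strS K K[X]) x).appTop.hom (sp (Polynomial.X : K[X]))) =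
      (pullback.fst (strS K K[T;T⁻¹]) x).appTop.hom (sp (LaurentPolynomial.T 1 : K[T;T⁻¹])) ∧
    Set.range oG = (Set.range s)ᶜ := by
  let p1 := pullback.fst (strS K K[X]) x
  let p2 := pullback.snd (strS K K[X]) x
  have sq : IsPullback p1 p2 (strS K K[X]) x := IsPullback.of_hasPullback _ _
  have sqG := IsPullback.of_hasPullback (strS K K[T;T⁻¹]) x
  let s : X ⟶ pullback (strS K K[X]) x := pullback.lift (x ≫ z0 K) (𝟙 X)
    (by rw [Category.assoc, z0_str, Category.comp_id, Category.id_comp])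
  let oG : pullback (strS K K[T;T⁻¹]) x ⟶ pullback (strS K K[X]) x :=
    pullback.lift (pullback.fst _ _ ≫ gm K) (pullback.snd _ _)
      (by rw [Category.assoc, gm_str, pullback.condition])
  have s1 : s ≫ p1 = x ≫ z0 K := pullback.lift_fst _ _ _
  have s2 : s ≫ p2 = 𝟙 X := pullback.lift_snd _ _ _
  have o1 : oG ≫ p1 = pullback.fst _ _ ≫ gm K := pullback.lift_fst _ _ _
  have o2 : oG ≫ p2 = pullback.snd _ _ := pullback.lift_snd _ _ _
  -- the squares over `𝔸¹`
  have q1 : IsPullback s x p1 (z0 K) := by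
    have h : IsPullback (s ≫ p2) x x (z0 K ≫ strS K K[X]) := by
      rw [s2, z0_str]
      exact IsPullback.of_horiz_isIso ⟨by rw [Category.id_comp, Category.comp_id]⟩
    exact IsPullback.of_right h s1 sq.flip
  have q2 : IsPullback oG (pullback.fst _ _) p1 (gm K) := by
    have h : IsPullback (oG ≫ p2) (pullback.fst _ _) x (gm K ≫ strS K K[X]) := by
      rw [o2, gm_str]
      exact sqG.flip
    exact IsPullback.of_right h o1 sq.flip
  have hs : IsClosedImmersion s := MorphismProperty.of_isPullback q1.flip inferInstance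
  have hoG : IsOpenImmersion oG := MorphismProperty.of_isPullback q2.flip inferInstance
  have hqG : QuasiCompact oG := MorphismProperty.of_isPullback q2.flip inferInstance
  refine ⟨s, oG, hs, s2, ?_, hoG, hqG, o2, o1, ?_, ?_⟩
  · rw [← comp_app, app_congr s1, comp_app, z0_X, map_zero]
  · rw [← comp_app, app_congr o1, comp_app, gm_X]
  · rw [range_of_isPullback q1, range_of_isPullback q2, range_gm, Set.preimage_compl]

/-! ### The twisted product -/

variable (K) in
/-- `𝔾_m × 𝔾_m^n ≅ 𝔾_m^(n+1)`, `(t, z) ↦ (t, t z)`. -/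
theorem exists_phi : ∃ φ : pullback (strS K K[T;T⁻¹]) (strS K (TorAlg K n)) ⟶
      Spec (CommRingCat.of (TorAlg K (n + 1))),
    IsIso φ ∧ φ ≫ strS K (TorAlg K (n + 1)) = pullback.snd _ _ ≫ strS K (TorAlg K n) ∧
    φ.appTop.hom (sp (tc K (n + 1) 0)) =
      (pullback.fst (strS K K[T;T⁻¹]) (strS K (TorAlg K n))).appTop.hom (sp (LaurentPolynomial.T 1 : K[T;T⁻¹])) ∧
    ∀ i : Fin n, φ.appTop.hom (sp (tc K (n + 1) i.succ)) =
      (pullback.fst (strS K K[T;T⁻¹]) (strS K (TorAlg K n))).appTop.hom (sp (LaurentPolynomial.T 1 : K[T;T⁻¹])) *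
        (pullback.snd (strS K K[T;T⁻¹]) (strS K (TorAlg K n))).appTop.hom (sp (tc K n i)) := by
  have hR := (rep_Gm K).prod (rep_Tor K n) stab_units stab_units
    (IsPullback.of_hasPullback (strS K K[T;T⁻¹]) (strS K (TorAlg K n)))
  set t := (pullback.fst (strS K K[T;T⁻¹]) (strS K (TorAlg K n))).appTop.hom
    (sp (LaurentPolynomial.T 1 : K[T;T⁻¹])) with ht
  set z : Fin n → Γ(pullback (strS K K[T;T⁻¹]) (strS K (TorAlg K n)), ⊤) := fun i =>
    (pullback.snd (strS K K[T;T⁻¹]) (strS K (TorAlg K n))).appTop.hom (sp (tc K n i)) with hz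
  have htu : IsUnit t := hR.mem.1 ()
  have hzu : ∀ i, IsUnit (z i) := hR.mem.2
  have hR2 : Rep (pullback.fst (strS K K[T;T⁻¹]) (strS K (TorAlg K n)) ≫ strS K K[T;T⁻¹])
      (Fin.cases t (fun i => t * z i) : Fin (n + 1) → _) PUnits := by
    refine hR.congr _ ?_ ?_ ?_
    · exact Fin.cases htu fun i => htu.mul (hzu i)
    · intro A _ w hw
      obtain ⟨v, hv⟩ := hw 0
      refine ⟨Sum.elim (fun _ => w 0) (fun i => ↑v⁻¹ * w i.succ), ⟨fun _ => hw 0, fun i => ?_⟩, ?_⟩
      · exact (v⁻¹).isUnit.mul (hw i.succ)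
      · intro φ hφ
        have h0 : φ t = w 0 := hφ (Sum.inl ())
        refine Fin.cases h0 fun i => ?_
        have h1 : φ (z i) = ↑v⁻¹ * w i.succ := hφ (Sum.inr i)
        change φ (t * z i) = _
        rw [map_mul, h0, h1, ← hv, Units.mul_inv_cancel_left]
    · intro A _ φ φ' h
      have h0 : φ t = φ' t := h 0
      rintro (i | i)
      · exact h0
      · have h1 : φ (t * z i) = φ' (t * z i) := h i.succ
        rw [map_mul, map_mul, h0] at h1
        exact (htu.map φ').mul_left_cancel h1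
  obtain ⟨e, h1, h2, -⟩ := hR2.exists_iso (rep_Tor K (n + 1))
  refine ⟨e.hom, inferInstance, ?_, h2 0, fun i => h2 i.succ⟩
  rw [h1, pullback.condition]

end Groth.Agent.Sga4h.H127
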