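import Groth.Agent.Sga4h.H127.TorSq
import Groth.Agent.Sga4h.H931.Tow

/-!
# The tower of tori over a field
-/

set_option autoImplicit false

universe u

open CategoryTheory CategoryTheory.Limits AlgebraicGeometry
open scoped BigOperators Polynomial LaurentPolynomial

namespace Groth.Agent.Sga4h.H127

open Groth.Agent.Sga4h.H931

theorem good_strS (K R : Type u) [CommRing K] [CommRing R] [Algebra K R] [Algebra.FiniteType K R] :
    HcCls.Good (strS K R) :=
  ⟨inferInstance, inferInstance, lft_strS K R⟩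

variable (K : Type u) [Field K]

/-- The coordinate of `𝔾_m`. -/
noncomputable def gmUnit : Γ(Spec (CommRingCat.of K[T;T⁻¹]), ⊤)ˣ := ((rep_Gm K).mem ()).unit

/-- The coordinates of the torus. -/
noncomputable def torUnit (n : ℕ) (i : Fin n) : Γ(Spec (CommRingCat.of (TorAlg K n)), ⊤)ˣ :=
  ((rep_Tor K n).mem i).unit

@[simp] theorem gmUnit_val : (gmUnit K : Γ(Spec (CommRingCat.of K[T;T⁻¹]), ⊤)) =
    sp (LaurentPolynomial.T 1 : K[T;T⁻¹]) := rfl

@[simp] theorem torUnit_val (n : ℕ) (i : Fin n) :
    (torUnit K n i : Γ(Spec (CommRingCat.of (TorAlg K n)), ⊤)) = sp (tc K n i) := rfl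

/-- The tower of tori over a field. -/
noncomputable def towK : Tow.Tow K where
  G := Spec (CommRingCat.of K[T;T⁻¹])
  aG := strS K K[T;T⁻¹]
  t := gmUnit K
  X n := Spec (CommRingCat.of (TorAlg K n))
  a n := strS K (TorAlg K n)
  z n := torUnit K n
  pr1 n := (exists_pr1 K n).choose
  pr2 n := (exists_pr2 K n).choose
  sq n := isPullback_tor (exists_pr1 K n).choose_spec.1 (exists_pr1 K n).choose_spec.2
    (exists_pr2 K n).choose_spec.1 (exists_pr2 K n).choose_spec.2
  h1 n := Units.ext (exists_pr1 K n).choose_spec.2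
  h2 n i := Units.ext ((exists_pr2 K n).choose_spec.2 i)
  w2 n := (exists_pr2 K n).choose_spec.1
  iso0 := isIso_tor_zero K
  goodG := good_strS K _
  good _ := good_strS K _

end Groth.Agent.Sga4h.H127
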